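import Groth.Agent.CILib.TorDim
import Groth.Agent.CommAlgDim.CM
import Mathlib.RingTheory.Regular.ProjectiveDimension

/-! Generating systems of ideals generated by regular sequences. -/

set_option autoImplicit false
universe u

open IsLocalRing RingTheory.Sequence CommAlgDim

namespace CILib

variable {A : Type u} [CommRing A] [IsNoetherianRing A] [IsLocalRing A]

omit [IsNoetherianRing A] [IsLocalRing A] in
theorem ofList_ofFn {r : ℕ} (x : Fin r → A) : Ideal.ofList (List.ofFn x) = Ideal.span (Set.range x) := by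
  refine congrArg Ideal.span (Set.ext fun a => ?_)
  simp [List.mem_ofFn]

/-- An ideal generated by a regular sequence needs that many generators. -/
theorem length_le_of_span_eq {rs : List A} (h : IsRegular A rs) {n : ℕ} (w : Fin n → A)
    (hw : Ideal.span (Set.range w) = Ideal.ofList rs) : rs.length ≤ n := by
  have hne : Ideal.ofList rs ≠ ⊤ := fun ht => h.top_ne_smul (by rw [ht]; simp)
  haveI := CommAlgDim.nontrivial_quotient hne
  have h1 := ringKrullDim_add_length_eq_ringKrullDim_of_isRegular rs h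
  have h2 := ringKrullDim_le_ringKrullDim_quotient_add_spanFinrank (Ideal.ofList rs)
    ((le_maximalIdeal hne).trans (IsLocalRing.ringJacobson_eq_maximalIdeal A).ge)
  have h3 : (Ideal.ofList rs).spanFinrank ≤ n := by
    rw [← hw]
    refine (Submodule.spanFinrank_span_le_ncard_of_finite (Set.finite_range w)).trans ?_
    rw [← Set.image_univ]
    exact (Set.ncard_image_le (Set.toFinite _)).trans (by simp)
  haveI : IsLocalRing (A ⧸ Ideal.ofList rs) := IsLocalRing.of_surjective' _ (Ideal.Quotient.mk_surjective (I := Ideal.ofList rs))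
  obtain ⟨d, hd⟩ := CommAlgDim.exists_ringKrullDim_eq (R := A)
  obtain ⟨c, hc⟩ := CommAlgDim.exists_ringKrullDim_eq (R := A ⧸ Ideal.ofList rs)
  rw [hc, hd] at h1 h2
  norm_cast at h1 h2
  omega

omit [IsLocalRing A] in
/-- An irredundant family has at most as many members as any generating family. -/
theorem card_le_of_irredundant [IsLocalRing A] {n r : ℕ} (w : Fin n → A) (x : Fin r → A)
    (hw : Ideal.span (Set.range w) ≤ Ideal.span (Set.range x)) (hx : Ideal.span (Set.range x) ≤ Ideal.span (Set.range w))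
    (hirr : ∀ a : Fin n → A, ∑ i, a i * w i = 0 → ∀ i, a i ∈ maximalIdeal A) : n ≤ r := by
  classical
  choose M hM using fun i => (Ideal.mem_span_range_iff_exists_fun (R := A)).1 (hw (Ideal.subset_span ⟨i, rfl⟩))
  choose N hN using fun k => (Ideal.mem_span_range_iff_exists_fun (R := A)).1 (hx (Ideal.subset_span ⟨k, rfl⟩))
  let k := ResidueField A
  let f : (Fin n → k) →ₗ[k] (Fin r → k) := Fintype.linearCombination k fun i l => residue A (M i l)
  let g : (Fin r → k) →ₗ[k] (Fin n → k) := Fintype.linearCombination k fun l j => residue A (N l j)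
  have hgf : g ∘ₗ f = LinearMap.id := by
    refine (Pi.basisFun k (Fin n)).ext fun i => funext fun j => ?_
    simp only [Pi.basisFun_apply, LinearMap.comp_apply, LinearMap.id_apply, f, g, Fintype.linearCombination_apply,
      Finset.sum_apply, Pi.smul_apply, smul_eq_mul, Pi.single_apply, ite_mul, one_mul, zero_mul]
    simp only [Finset.sum_ite_eq', Finset.mem_univ, if_true, ← map_mul, ← map_sum]
    have h0 : ∑ j, ((∑ l, M i l * N l j) - if j = i then 1 else 0) * w j = 0 := by
      simp only [sub_mul, Finset.sum_sub_distrib, ite_mul, one_mul, zero_mul, Finset.sum_ite_eq', Finset.mem_univ,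
        if_true, Finset.sum_mul, mul_assoc]
      rw [Finset.sum_comm]
      simp only [← Finset.mul_sum, hN, hM, sub_self]
    have h1 := (residue_eq_zero_iff _).2 (hirr _ h0 j)
    rw [map_sub, sub_eq_zero] at h1
    rw [h1, apply_ite (residue A), map_one, map_zero]
  have hinj : Function.Injective f := Function.LeftInverse.injective (g := g) fun v => LinearMap.congr_fun hgf v
  simpa using LinearMap.finrank_le_finrank_of_injective hinj

omit [IsNoetherianRing A] in
/-- Members of a minimal generating family are not in `mJ`. -/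
theorem exists_unit_coeff {r : ℕ} {rs : List A} (h : IsRegular A rs) [IsNoetherianRing A] (hr : rs.length = r + 1)
    (x y : Fin (r + 1) → A) (hx : Ideal.span (Set.range x) = Ideal.ofList rs)
    (hy : Ideal.span (Set.range y) = Ideal.ofList rs) :
    ∃ c : Fin (r + 1) → A, ∑ k, c k * x k = y 0 ∧ ∃ k, c k ∉ maximalIdeal A := by
  obtain ⟨c, hc⟩ := (Ideal.mem_span_range_iff_exists_fun (R := A)).1
    (show y 0 ∈ Ideal.span (Set.range x) by rw [hx, ← hy]; exact Ideal.subset_span ⟨0, rfl⟩)
  refine ⟨c, hc, ?_⟩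
  by_contra hall
  push_neg at hall
  have hle : Ideal.ofList rs ≤ Ideal.span (Set.range fun i : Fin r => y i.succ) ⊔ maximalIdeal A • Ideal.ofList rs := by
    conv_lhs => rw [← hy]
    refine Ideal.span_le.2 ?_
    rintro _ ⟨i, rfl⟩
    refine Fin.cases ?_ (fun i => Ideal.mem_sup_left (Ideal.subset_span ⟨i, rfl⟩)) i
    refine Ideal.mem_sup_right ?_
    rw [← hc, smul_eq_mul]
    exact sum_mem fun k _ => Ideal.mul_mem_mul (hall k) (hx ▸ Ideal.subset_span ⟨k, rfl⟩)
  have := Submodule.le_of_le_smul_of_le_jacobson_bot (IsNoetherian.noetherian (Ideal.ofList rs))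
    (jacobson_eq_maximalIdeal ⊥ bot_ne_top).ge hle
  have := length_le_of_span_eq h (fun i : Fin r => y i.succ) (le_antisymm (Ideal.span_le.2 (by
    rintro _ ⟨i, rfl⟩
    exact hy ▸ Ideal.subset_span ⟨i.succ, rfl⟩)) this)
  omega

/-- Any generating family of the right size of an ideal generated by a regular sequence is regular. -/
theorem isRegular_of_span_eq : ∀ (r : ℕ) (A : Type u) [CommRing A] [IsNoetherianRing A] [IsLocalRing A]
    (x y : Fin r → A), IsRegular A (List.ofFn x) → Ideal.span (Set.range y) = Ideal.span (Set.range x) →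
      IsRegular A (List.ofFn y)
  | 0, A, _, _, _, x, y, _, _ => by rw [List.ofFn_zero]; exact IsRegular.nil A A
  | r + 1, A, _, _, _, x, y, h, hxy => by
    classical
    obtain ⟨c, hc, k, hk⟩ := exists_unit_coeff h (List.length_ofFn) x y (ofList_ofFn x).symm
      (hxy.trans (ofList_ofFn x).symm)
    let σ : Equiv.Perm (Fin (r + 1)) := (Fin.cycleRange k).symm
    have hσ : List.ofFn (x ∘ σ) = x k :: List.ofFn (fun i => x (k.succAbove i)) := by
      rw [List.ofFn_succ]
      simp [σ, Fin.cycleRange_symm_zero, Fin.cycleRange_symm_succ]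
    set L := List.ofFn fun i => x (k.succAbove i) with hL
    have h1 : IsRegular A (x k :: L) := hσ ▸ IsLocalRing.isRegular_of_perm h (Equiv.Perm.ofFn_comp_perm σ x).symm
    have hm := CommAlgDim.mem_maximalIdeal_of_isRegular h1
    have h2 := IsLocalRing.isWeaklyRegular_of_perm_of_subset_maximalIdeal h1.toIsWeaklyRegular
      (List.perm_append_comm (l₁ := [x k]) (l₂ := L)) hm
    obtain ⟨hLreg, hlast⟩ := (isWeaklyRegular_append_iff A L [x k]).1 h2
    rw [isWeaklyRegular_singleton_iff] at hlast
    have hy0 : ∀ m : A ⧸ (Ideal.ofList L • ⊤ : Submodule A A), y 0 • m = (c k * x k) • m := fun m => by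
      obtain ⟨m, rfl⟩ := Submodule.Quotient.mk_surjective _ m
      rw [← Submodule.Quotient.mk_smul, ← Submodule.Quotient.mk_smul, Submodule.Quotient.eq, smul_eq_mul,
        Ideal.mul_top, ← hc, Fin.sum_univ_succAbove _ k, smul_eq_mul, smul_eq_mul, add_mul, add_sub_cancel_left,
        Finset.sum_mul]
      exact sum_mem fun i _ => Ideal.mul_mem_right _ _ (Ideal.mul_mem_left _ _
        (Ideal.subset_span (by simp [hL, List.mem_ofFn])))
    have h3 : IsWeaklyRegular A (L ++ [y 0]) := by
      refine (isWeaklyRegular_append_iff A L [y 0]).2 ⟨hLreg, (isWeaklyRegular_singleton_iff _ _).2 fun u v huv => ?_⟩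
      simp only [hy0, mul_smul] at huv
      obtain ⟨d, hd⟩ := (notMem_maximalIdeal.1 hk).exists_left_inv
      refine hlast ?_
      have h4 := congrArg (d • ·) huv
      simpa only [smul_smul, ← mul_assoc, hd, one_mul] using h4
    have hy0m : y 0 ∈ maximalIdeal A := by
      rw [← hc]
      refine sum_mem fun i _ => Ideal.mul_mem_left _ _ ?_
      rcases Fin.eq_self_or_eq_succAbove k i with rfl | ⟨j, rfl⟩
      · exact hm _ (List.mem_cons_self ..)
      · exact hm _ (List.mem_cons_of_mem _ (List.mem_ofFn.2 ⟨j, rfl⟩))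
    have hm' : ∀ z ∈ y 0 :: L, z ∈ maximalIdeal A := fun z hz => by
      rcases List.mem_cons.1 hz with rfl | hz
      · exact hy0m
      · exact hm z (List.mem_cons_of_mem _ hz)
    have h5 : IsRegular A (y 0 :: L) :=
      IsRegular.of_isWeaklyRegular_of_mem_maximalIdeal A hm'
        (IsLocalRing.isWeaklyRegular_of_perm_of_subset_maximalIdeal h3
          (List.perm_append_comm (l₁ := L) (l₂ := [y 0])) fun z hz => hm' z (List.perm_append_comm.subset hz))
    obtain ⟨hy0r, h6⟩ := CommAlgDim.isRegular_cons_ring.1 h5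
    rw [List.ofFn_succ]
    refine CommAlgDim.isRegular_cons_ring.2 ⟨hy0r, ?_⟩
    let π := Ideal.Quotient.mk (Ideal.span {y 0})
    haveI := CommAlgDim.nontrivial_quotient (CommAlgDim.singleton_ne_top hy0m)
    haveI : IsLocalRing (A ⧸ Ideal.span {y 0}) :=
      IsLocalRing.of_surjective' π Ideal.Quotient.mk_surjective
    rw [hL, List.map_ofFn] at h6
    rw [List.map_ofFn]
    refine isRegular_of_span_eq r _ _ _ h6 ?_
    rw [Set.range_comp π, Set.range_comp π, ← Ideal.map_span, ← Ideal.map_span]
    have hπ0 : π (y 0) = 0 := Ideal.Quotient.eq_zero_iff_mem.2 (Ideal.mem_span_singleton_self _)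
    have hy_all : (Ideal.span (Set.range y)).map π = (Ideal.span (Set.range fun i : Fin r => y i.succ)).map π := by
      refine le_antisymm (Ideal.map_le_iff_le_comap.2 (Ideal.span_le.2 ?_)) (Ideal.map_mono (Ideal.span_mono ?_))
      · rintro _ ⟨i, rfl⟩
        refine Fin.cases ?_ (fun i => Ideal.mem_map_of_mem π (Ideal.subset_span ⟨i, rfl⟩)) i
        rw [SetLike.mem_coe, Ideal.mem_comap, hπ0]; exact zero_mem _
      · rintro _ ⟨i, rfl⟩; exact ⟨_, rfl⟩
    rw [← hy_all, hxy]
    refine le_antisymm (Ideal.map_le_iff_le_comap.2 (Ideal.span_le.2 ?_)) (Ideal.map_mono (Ideal.span_mono ?_))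
    · rintro _ ⟨i, rfl⟩
      rcases Fin.eq_self_or_eq_succAbove k i with rfl | ⟨j, rfl⟩
      · rw [SetLike.mem_coe, Ideal.mem_comap]
        obtain ⟨d, hd⟩ := (notMem_maximalIdeal.1 hk).exists_left_inv
        have he : π (x i) = -π d * ∑ j, π (c (i.succAbove j)) * π (x (i.succAbove j)) := by
          have := congrArg π hc
          rw [hπ0, Fin.sum_univ_succAbove _ i, map_add, map_mul, map_sum] at this
          simp only [map_mul] at this
          have hd' : π d * π (c i) = 1 := by rw [← map_mul, hd, map_one]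
          linear_combination π d * this - π (x i) * hd'
        rw [he]
        exact Ideal.mul_mem_left _ _ (sum_mem fun j _ => Ideal.mul_mem_left _ _
          (Ideal.mem_map_of_mem π (Ideal.subset_span ⟨j, rfl⟩)))
      · exact Ideal.mem_map_of_mem π (Ideal.subset_span ⟨j, rfl⟩)
    · rintro _ ⟨i, rfl⟩; exact ⟨_, rfl⟩

/-- Transitivity: an ideal inside one generated by a regular sequence, with quotient of finite tor dimension. -/
theorem exists_regular_of_finiteTorDim (I J : Ideal A) (hIJ : I ≤ J) (hJ : J ≠ ⊤) [Algebra (A ⧸ I) (A ⧸ J)]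
    [IsScalarTower A (A ⧸ I) (A ⧸ J)] (hfd : DRing.HasFiniteTorDim (A ⧸ I) (A ⧸ J))
    (hJreg : ∃ rs : List A, Ideal.ofList rs = J ∧ IsRegular A rs) :
    (∃ rs : List A, Ideal.ofList rs = I ∧ IsRegular A rs) ∧
      ∃ rs' : List (A ⧸ I), Ideal.ofList rs' = J.map (Ideal.Quotient.mk I) ∧ IsRegular (A ⧸ I) rs' := by
  classical
  obtain ⟨rs, hrs, hreg⟩ := hJreg
  let x : Fin rs.length → A := rs.get
  have hxl : List.ofFn x = rs := List.ofFn_get rs
  have hxJ : Ideal.span (Set.range x) = J := by rw [← ofList_ofFn, hxl, hrs]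
  -- minimal generators of `I`
  have hexI : ∃ n, ∃ y : Fin n → A, Ideal.span (Set.range y) = I := by
    obtain ⟨t, ht⟩ := IsNoetherian.noetherian I
    exact ⟨t.card, fun i => (t.equivFin.symm i : A), by
      rw [← ht]
      refine congrArg Ideal.span (Set.ext fun z => ⟨?_, fun hz => ⟨t.equivFin ⟨z, hz⟩, by simp⟩⟩)
      rintro ⟨i, rfl⟩
      exact (t.equivFin.symm i).2⟩
  let s := Nat.find hexI
  obtain ⟨y, hy⟩ : ∃ y : Fin s → A, Ideal.span (Set.range y) = I := Nat.find_spec hexI
  have hyirr : ∀ a : Fin s → A, ∑ i, a i * y i ∈ maximalIdeal A * I → ∀ i, a i ∈ maximalIdeal A := by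
    intro a ha i
    by_contra hai
    rcases Nat.eq_zero_or_pos s with hs | hs
    · exact absurd i.2 (by omega)
    obtain ⟨s', hs'⟩ : ∃ s', s = s' + 1 := ⟨s - 1, by omega⟩
    let i' : Fin (s' + 1) := Fin.cast hs' i
    let y' : Fin s' → A := fun j => y (Fin.cast hs'.symm (i'.succAbove j))
    refine Nat.find_min hexI (show s' < s by omega) ⟨y', le_antisymm (Ideal.span_le.2 ?_) ?_⟩
    · rintro _ ⟨j, rfl⟩
      exact hy ▸ Ideal.subset_span ⟨_, rfl⟩
    refine Submodule.le_of_le_smul_of_le_jacobson_bot (IsNoetherian.noetherian I)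
      (jacobson_eq_maximalIdeal ⊥ bot_ne_top).ge ?_
    conv_lhs => rw [← hy]
    refine Ideal.span_le.2 ?_
    rintro _ ⟨l, rfl⟩
    rcases eq_or_ne l i with rfl | hl
    · obtain ⟨d, hd⟩ := (notMem_maximalIdeal.1 hai).exists_left_inv
      have he : y l = d * ∑ j, a j * y j - ∑ j ∈ Finset.univ.erase l, d * a j * y j := by
        rw [Finset.mul_sum, ← Finset.add_sum_erase _ _ (Finset.mem_univ l)]
        simp only [← mul_assoc, hd, one_mul]
        ring
      rw [SetLike.mem_coe, he]
      refine sub_mem (Ideal.mem_sup_right (by rw [smul_eq_mul]; exact Ideal.mul_mem_left _ _ ha))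
        (sum_mem fun j hj => Ideal.mul_mem_left _ _ (Ideal.mem_sup_left ?_))
      obtain ⟨m, hm⟩ := Fin.exists_succAbove_eq (x := Fin.cast hs' j) (y := i') (fun he => (Finset.mem_erase.1 hj).1
        (Fin.cast_injective hs' he))
      exact Ideal.subset_span ⟨m, show y _ = y j by rw [hm]; rfl⟩
    · obtain ⟨m, hm⟩ := Fin.exists_succAbove_eq (x := Fin.cast hs' l) (y := i') (fun he => hl (Fin.cast_injective hs' he))
      exact Ideal.mem_sup_left (Ideal.subset_span ⟨m, show y _ = y l by rw [hm]; rfl⟩)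
  -- few extra generators for `J`
  have hexJ : ∃ t, ∃ z : Fin t → A, I ⊔ Ideal.span (Set.range z) = J :=
    ⟨_, x, by rw [hxJ]; exact sup_eq_right.2 hIJ⟩
  let t := Nat.find hexJ
  obtain ⟨z, hz⟩ : ∃ z : Fin t → A, I ⊔ Ideal.span (Set.range z) = J := Nat.find_spec hexJ
  have hw : Ideal.span (Set.range (Fin.append y z)) = J := by
    rw [← hz, ← hy, ← Ideal.span_union]
    refine congrArg Ideal.span (Set.ext fun a => ⟨?_, ?_⟩)
    · rintro ⟨i, rfl⟩
      refine Fin.addCases (fun i => ?_) (fun i => ?_) i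
      · exact Or.inl ⟨i, (Fin.append_left y z i).symm⟩
      · exact Or.inr ⟨i, (Fin.append_right y z i).symm⟩
    · rintro (⟨i, rfl⟩ | ⟨i, rfl⟩)
      · exact ⟨_, Fin.append_left y z i⟩
      · exact ⟨_, Fin.append_right y z i⟩
  have hirr : ∀ a : Fin (s + t) → A, ∑ i, a i * Fin.append y z i = 0 → ∀ i, a i ∈ maximalIdeal A := by
    intro a ha
    rw [Fin.sum_univ_add] at ha
    simp only [Fin.append_left, Fin.append_right] at ha
    have hb : ∀ l, a (Fin.natAdd s l) ∈ maximalIdeal A := by
      intro l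
      by_contra hl
      obtain ⟨t', ht'⟩ : ∃ t', t = t' + 1 := ⟨t - 1, by have := l.2; omega⟩
      let l' : Fin (t' + 1) := Fin.cast ht' l
      let z' : Fin t' → A := fun j => z (Fin.cast ht'.symm (l'.succAbove j))
      refine Nat.find_min hexJ (show t' < t by omega) ⟨z', le_antisymm (sup_le hIJ (Ideal.span_le.2 ?_)) ?_⟩
      · rintro _ ⟨j, rfl⟩
        exact hz ▸ Ideal.mem_sup_right (Ideal.subset_span ⟨_, rfl⟩)
      conv_lhs => rw [← hz]
      refine sup_le le_sup_left (Ideal.span_le.2 ?_)
      rintro _ ⟨m, rfl⟩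
      rcases eq_or_ne m l with rfl | hm
      · obtain ⟨d, hd⟩ := (notMem_maximalIdeal.1 hl).exists_left_inv
        have he : z m = -d * ∑ i, a (Fin.castAdd t i) * y i -
            d * ∑ j ∈ Finset.univ.erase m, a (Fin.natAdd s j) * z j := by
          rw [← Finset.add_sum_erase _ _ (Finset.mem_univ m)] at ha
          linear_combination d * ha - z m * hd
        rw [SetLike.mem_coe, he]
        refine sub_mem (Ideal.mem_sup_left (Ideal.mul_mem_left _ _ (sum_mem fun i _ =>
          Ideal.mul_mem_left _ _ (hy ▸ Ideal.subset_span ⟨i, rfl⟩))))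
          (Ideal.mem_sup_right (Ideal.mul_mem_left _ _ (sum_mem fun j hj => Ideal.mul_mem_left _ _ ?_)))
        obtain ⟨q, hq⟩ := Fin.exists_succAbove_eq (x := Fin.cast ht' j) (y := l') (fun he => (Finset.mem_erase.1 hj).1
          (Fin.cast_injective ht' he))
        exact Ideal.subset_span ⟨q, show z _ = z j by rw [hq]; rfl⟩
      · obtain ⟨q, hq⟩ := Fin.exists_succAbove_eq (x := Fin.cast ht' m) (y := l') (fun he => hm (Fin.cast_injective ht' he))
        exact Ideal.mem_sup_right (Ideal.subset_span ⟨q, show z _ = z m by rw [hq]; rfl⟩)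
    have hyI : ∑ i, a (Fin.castAdd t i) * y i ∈ I :=
      sum_mem fun i _ => Ideal.mul_mem_left _ _ (hy ▸ Ideal.subset_span ⟨i, rfl⟩)
    have hymJ : ∑ i, a (Fin.castAdd t i) * y i ∈ maximalIdeal A * J := by
      rw [eq_neg_of_add_eq_zero_left ha]
      exact neg_mem (sum_mem fun l _ => Ideal.mul_mem_mul (hb l) (hz ▸ Ideal.mem_sup_right (Ideal.subset_span ⟨l, rfl⟩)))
    have ha' := hyirr _ (mem_maximal_mul I J hIJ hJ hfd hyI hymJ)
    exact fun i => Fin.addCases ha' hb i
  have h1 : s + t ≤ rs.length :=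
    card_le_of_irredundant _ x (hw.trans hxJ.symm).le (hxJ.trans hw.symm).le hirr
  have h2 : rs.length ≤ s + t := length_le_of_span_eq hreg (Fin.append y z) (hw.trans hrs.symm)
  have heq : s + t = rs.length := le_antisymm h1 h2
  have hwreg : IsRegular A (List.ofFn (Fin.append y z)) := by
    rw [List.ofFn_congr heq]
    refine isRegular_of_span_eq rs.length A x _ (hxl.symm ▸ hreg) ?_
    rw [hxJ, ← hw]
    exact congrArg Ideal.span ((finCongr heq.symm).surjective.range_comp (Fin.append y z))
  rw [List.ofFn_fin_append] at hwreg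
  obtain ⟨hyreg, hzreg⟩ := (isWeaklyRegular_append_iff' A _ _).1 hwreg.toIsWeaklyRegular
  have hm := CommAlgDim.mem_maximalIdeal_of_isRegular hwreg
  refine ⟨⟨List.ofFn y, by rw [ofList_ofFn, hy],
    IsRegular.of_isWeaklyRegular_of_mem_maximalIdeal A (fun r hr => hm r (List.mem_append_left _ hr)) hyreg⟩,
    (List.ofFn z).map (Ideal.Quotient.mk I), ?_, ?_⟩
  · rw [CommAlgDim.ofList_map, ofList_ofFn]
    conv_rhs => rw [← hz, Ideal.map_sup, Ideal.map_quotient_self, bot_sup_eq]
  · have hI : I ≠ ⊤ := fun h => hJ (top_le_iff.1 (h ▸ hIJ))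
    haveI := CommAlgDim.nontrivial_quotient hI
    haveI : IsLocalRing (A ⧸ I) := IsLocalRing.of_surjective' _ (Ideal.Quotient.mk_surjective (I := I))
    refine IsRegular.of_isWeaklyRegular_of_mem_maximalIdeal (A ⧸ I) (fun r hr => ?_) ?_
    · obtain ⟨r, hr', rfl⟩ := List.mem_map.1 hr
      rw [← IsLocalRing.map_maximalIdeal_of_surjective (Ideal.Quotient.mk I) Ideal.Quotient.mk_surjective]
      exact Ideal.mem_map_of_mem _ (hm r (List.mem_append_right _ hr'))
    · rw [← Ideal.Quotient.algebraMap_eq]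
      refine (isWeaklyRegular_map_algebraMap_iff (S := A ⧸ I) (M := A ⧸ I) _).2 ?_
      rw [← Ideal.Quotient.algebraMap_eq, isWeaklyRegular_map_algebraMap_iff] at hzreg
      exact ((Submodule.quotEquivOfEq _ _ (by rw [smul_eq_mul, Ideal.mul_top, ofList_ofFn, hy])).isWeaklyRegular_congr _).1 hzreg

theorem FD_of_pdlt {P : Type u} [CommRing P] : ∀ (n : ℕ) {M : Type u} [AddCommGroup M] [Module P M],
    PDLT P M (n + 1) → DiagLib.FD P n M
  | 0, M, _, _, h =>
    haveI : Module.Projective P M := pdlt_one_iff.1 h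
    (inferInstance : Module.Flat P M)
  | n + 1, M, _, _, h => by
    have hg : Function.Surjective (Finsupp.linearCombination P (_root_.id : M → M)) :=
      fun m => ⟨Finsupp.single m 1, by simp⟩
    exact ⟨M →₀ P, _, _, Finsupp.linearCombination P _root_.id, inferInstance, hg,
      FD_of_pdlt n ((pdlt_ker_iff _ hg n).1 h)⟩

end CILib
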