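import Groth.Agent.DiagLib.FD
import Groth.Agent.S6532
import Mathlib.RingTheory.LocalRing.ResidueField.Basic

/-! Ideals inside an ideal cutting out a quotient of finite tor dimension. -/

set_option autoImplicit false
universe u

open TensorProduct IsLocalRing

namespace CILib

theorem hasFiniteTorDim_of_FD {P : Type u} [CommRing P] {n : ℕ} {M : Type u} [AddCommGroup M] [Module P M]
    (h : DiagLib.FD P n M) : DRing.HasFiniteTorDim P M := by
  refine ⟨n, fun N _ _ i hi => ?_⟩
  obtain ⟨i, rfl⟩ : ∃ q, i = q + 1 := ⟨i - 1, by omega⟩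
  obtain ⟨Q⟩ := (inferInstance : CategoryTheory.HasProjectiveResolution (ModuleCat.of P N)).out
  exact ModuleCat.subsingleton_of_isZero
    (PDLib.isZero_tor_of_exactAtSucc Q i (DiagLib.exactAtSucc_of_FD n h _ Q i (by omega)))

theorem hasFiniteTorDim_of_equiv {P : Type u} [CommRing P] {M N : Type u} [AddCommGroup M] [Module P M]
    [AddCommGroup N] [Module P N] (e : M ≃ₗ[P] N) (h : DRing.HasFiniteTorDim P M) :
    DRing.HasFiniteTorDim P N := by
  obtain ⟨n, hn⟩ := DiagLib.exists_FD_of_hasFiniteTorDim h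
  exact hasFiniteTorDim_of_FD (DiagLib.FD.of_equiv n e hn)

variable {A : Type u} [CommRing A] [IsNoetherianRing A] [IsLocalRing A]

/-- `I / mI → J / mJ` is injective when `A / J` has finite tor dimension over `A / I`. -/
theorem mem_maximal_mul (I J : Ideal A) (hIJ : I ≤ J) (hJ : J ≠ ⊤) [Algebra (A ⧸ I) (A ⧸ J)]
    [IsScalarTower A (A ⧸ I) (A ⧸ J)] (hfd : DRing.HasFiniteTorDim (A ⧸ I) (A ⧸ J))
    {x : A} (hx : x ∈ I) (hxm : x ∈ maximalIdeal A * J) : x ∈ maximalIdeal A * I := by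
  classical
  by_contra hxI
  let S : Set (Ideal A) := {K | maximalIdeal A * I ≤ K ∧ K ≤ I ∧ x ∉ K}
  obtain ⟨K, ⟨hmK, hKI, hxK⟩, hmax⟩ :=
    set_has_maximal_iff_noetherian.2 (inferInstance : IsNoetherian A A) S ⟨_, le_rfl, Ideal.mul_le_right, hxI⟩
  have hsup : I = K ⊔ Ideal.span {x} := by
    refine le_antisymm (fun y hy => ?_) (sup_le hKI ((Ideal.span_singleton_le_iff_mem _).2 hx))
    by_contra hyK
    have hlt : K < K ⊔ Ideal.span {y} := lt_of_le_of_ne le_sup_left fun h => hyK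
      (Ideal.mem_sup_left (h ▸ Ideal.mem_sup_right (Ideal.mem_span_singleton_self y)))
    have hxy : x ∈ K ⊔ Ideal.span {y} := by
      by_contra hcon
      exact hmax _ ⟨hmK.trans le_sup_left, sup_le hKI ((Ideal.span_singleton_le_iff_mem _).2 hy), hcon⟩ hlt
    obtain ⟨k, hk, w, hw, hkw⟩ := Submodule.mem_sup.1 hxy
    obtain ⟨a, rfl⟩ := Ideal.mem_span_singleton'.1 hw
    by_cases ha : a ∈ maximalIdeal A
    · exact hxK (hkw ▸ add_mem hk (hmK (Ideal.mul_mem_mul ha hy)))
    · refine hyK ((Ideal.unit_mul_mem_iff_mem _ (notMem_maximalIdeal.1 ha)).1 ?_)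
      rw [show a * y = x - k by rw [← hkw]; ring]
      exact sub_mem (Ideal.mem_sup_right (Ideal.mem_span_singleton_self x)) (Ideal.mem_sup_left hk)
  have hI : I ≠ ⊤ := fun h => hJ (top_le_iff.1 (h ▸ hIJ))
  haveI : Nontrivial (A ⧸ I) := Ideal.Quotient.nontrivial_iff.2 hI
  haveI : IsLocalRing (A ⧸ I) := IsLocalRing.of_surjective' _ (Ideal.Quotient.mk_surjective (I := I))
  let π : A ⧸ K →+* A ⧸ I := Ideal.Quotient.factor hKI
  have hπ : Function.Surjective π := Ideal.Quotient.factor_surjective hKI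
  let f : A ⧸ K := Ideal.Quotient.mk K x
  have hker : RingHom.ker π = Ideal.span {f} := by
    ext z
    obtain ⟨z, rfl⟩ := Ideal.Quotient.mk_surjective z
    rw [RingHom.mem_ker]
    show Ideal.Quotient.mk I z = 0 ↔ _
    rw [Ideal.Quotient.eq_zero_iff_mem, ← Set.image_singleton, ← Ideal.map_span,
      Ideal.mem_quotient_iff_mem_sup, hsup, sup_comm]
  have hxmax : x ∈ maximalIdeal A := le_maximalIdeal hI hx
  have hf : f * f = 0 := by
    rw [← map_mul, Ideal.Quotient.eq_zero_iff_mem]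
    exact hmK (Ideal.mul_mem_mul hxmax hx)
  have hann : ∀ a ∈ maximalIdeal A, Ideal.Quotient.mk K a ∈ (Ideal.span {f}).annihilator := fun a ha => by
    rw [Submodule.mem_annihilator_span_singleton, smul_eq_mul, ← map_mul, Ideal.Quotient.eq_zero_iff_mem]
    exact hmK (Ideal.mul_mem_mul ha hx)
  obtain ⟨t, ht⟩ := IsNoetherian.noetherian J
  let e := t.equivFin
  let j : Fin t.card → A := fun i => (e.symm i : A)
  have hJspan : J = Ideal.span (Set.range j) := by
    rw [← ht]
    refine congrArg _ (Set.ext fun z => ⟨fun hz => ⟨e ⟨z, hz⟩, by simp [j]⟩, ?_⟩)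
    rintro ⟨i, rfl⟩
    exact (e.symm i).2
  obtain ⟨r, hr, hxr⟩ : ∃ r : Fin t.card → A, (∀ i, r i ∈ maximalIdeal A) ∧ ∑ i, r i * j i = x := by
    have h1 : x ∈ maximalIdeal A • Submodule.span A (Set.range j) := by
      rw [smul_eq_mul, Ideal.submodule_span_eq, ← hJspan]; exact hxm
    obtain ⟨a, ha, hax⟩ := (Submodule.mem_ideal_smul_span_iff_exists_sum (maximalIdeal A) j x).1 h1
    refine ⟨a, ha, ?_⟩
    rw [← hax, Finsupp.sum_fintype _ _ (fun i => by simp)]
    rfl
  let P := MvPolynomial (Fin 0) (A ⧸ I)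
  let fs : Fin t.card → P := fun i => MvPolynomial.C (Ideal.Quotient.mk I (j i))
  have hrel : ∑ i, MvPolynomial.C (Ideal.Quotient.mk I (r i)) * fs i = 0 := by
    simp only [fs, ← map_mul, ← map_sum, hxr, Ideal.Quotient.eq_zero_iff_mem.2 hx, map_zero]
  refine Groth.Agent.S6532.result π hπ f hker hf fs (fun i => MvPolynomial.C (Ideal.Quotient.mk I (r i))) hrel
    ?_ (fun i => MvPolynomial.C (Ideal.Quotient.mk K (r i))) (fun i => MvPolynomial.C (Ideal.Quotient.mk K (j i))) 1
    (fun i => by rw [MvPolynomial.map_C]; rfl) (fun i => by rw [MvPolynomial.map_C]; rfl) ?_ ?_ ?_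
  · intro i d
    rw [MvPolynomial.coeff_C]
    split_ifs
    · exact Ideal.mem_map_of_mem π (hann _ (hr i))
    · exact zero_mem _
  · simp only [← map_mul, ← map_sum, hxr, mul_one]
    rfl
  · rintro ⟨k, hk⟩
    rw [← map_pow, Ideal.Quotient.eq_zero_iff_mem, map_one, one_pow] at hk
    let ev : P →+* ResidueField (A ⧸ I) :=
      (residue (A ⧸ I)).comp (MvPolynomial.isEmptyAlgEquiv (A ⧸ I) (Fin 0)).toRingEquiv.toRingHom
    have hevC : ∀ a, ev (MvPolynomial.C a) = residue (A ⧸ I) a := fun a => by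
      show residue (A ⧸ I) (MvPolynomial.isEmptyAlgEquiv (A ⧸ I) (Fin 0) (algebraMap (A ⧸ I) P a)) = _
      rw [AlgEquiv.commutes]
      rfl
    have hmap : ∀ a ∈ maximalIdeal A, Ideal.Quotient.mk I a ∈ maximalIdeal (A ⧸ I) := fun a ha => by
      rw [← IsLocalRing.map_maximalIdeal_of_surjective (Ideal.Quotient.mk I) Ideal.Quotient.mk_surjective]
      exact Ideal.mem_map_of_mem _ ha
    have hle : Ideal.span (Set.range fs) ⊔ (((Ideal.span {f}).annihilator).map π).map MvPolynomial.C ≤ RingHom.ker ev := by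
      refine sup_le (Ideal.span_le.2 ?_) (Ideal.map_le_iff_le_comap.2 (Ideal.map_le_iff_le_comap.2 fun a ha => ?_))
      · rintro _ ⟨i, rfl⟩
        rw [SetLike.mem_coe, RingHom.mem_ker, hevC, residue_eq_zero_iff]
        exact hmap _ (le_maximalIdeal hJ (hJspan ▸ Ideal.subset_span ⟨i, rfl⟩))
      · obtain ⟨a, rfl⟩ := Ideal.Quotient.mk_surjective a
        show MvPolynomial.C (Ideal.Quotient.mk I a) ∈ RingHom.ker ev
        rw [RingHom.mem_ker, hevC, residue_eq_zero_iff]
        refine hmap _ ?_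
        rw [Submodule.mem_annihilator_span_singleton, smul_eq_mul, ← map_mul, Ideal.Quotient.eq_zero_iff_mem] at ha
        by_contra hua
        exact hxK ((Ideal.unit_mul_mem_iff_mem _ (notMem_maximalIdeal.1 hua)).1 ha)
    exact one_ne_zero ((map_one ev).symm.trans (RingHom.mem_ker.1 (hle hk)))
  · let l : P →ₗ[A ⧸ I] A ⧸ J := (Algebra.linearMap (A ⧸ I) (A ⧸ J)) ∘ₗ
      (MvPolynomial.isEmptyAlgEquiv (A ⧸ I) (Fin 0)).toLinearEquiv.toLinearMap
    have hmk : ∀ a : A, algebraMap (A ⧸ I) (A ⧸ J) (Ideal.Quotient.mk I a) = Ideal.Quotient.mk J a := fun a => by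
      rw [← Ideal.Quotient.algebraMap_eq, ← IsScalarTower.algebraMap_apply]; rfl
    have hlC : ∀ a, l (MvPolynomial.C (Ideal.Quotient.mk I a)) = Ideal.Quotient.mk J a := fun a => by
      rw [← hmk]
      show algebraMap (A ⧸ I) (A ⧸ J) (MvPolynomial.isEmptyAlgEquiv (A ⧸ I) (Fin 0) (algebraMap (A ⧸ I) P (Ideal.Quotient.mk I a))) = _
      rw [AlgEquiv.commutes]
      rfl
    have hC : ∀ p : P, ∃ a, MvPolynomial.C (Ideal.Quotient.mk I a) = p := fun p => by
      obtain ⟨b, rfl⟩ := MvPolynomial.C_surjective (Fin 0) p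
      obtain ⟨a, rfl⟩ := Ideal.Quotient.mk_surjective b
      exact ⟨a, rfl⟩
    have hl : Function.Surjective l := fun z => by
      obtain ⟨a, rfl⟩ := Ideal.Quotient.mk_surjective z
      exact ⟨_, hlC a⟩
    have hkl : LinearMap.ker l = (Ideal.span (Set.range fs)).restrictScalars (A ⧸ I) := by
      ext p
      obtain ⟨a, rfl⟩ := hC p
      rw [LinearMap.mem_ker, hlC, Ideal.Quotient.eq_zero_iff_mem, Submodule.restrictScalars_mem]
      constructor
      · intro ha
        have := Ideal.mem_map_of_mem ((MvPolynomial.C : A ⧸ I →+* P).comp (Ideal.Quotient.mk I)) ha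
        rw [hJspan, Ideal.map_span, ← Set.range_comp] at this
        exact this
      · intro ha
        have e1 : Ideal.span (Set.range fs) = (J.map (Ideal.Quotient.mk I)).map MvPolynomial.C := by
          rw [hJspan, Ideal.map_map, Ideal.map_span, ← Set.range_comp]; rfl
        rw [e1, MvPolynomial.mem_map_C_iff] at ha
        have h0 := ha 0
        rw [MvPolynomial.coeff_C, if_pos rfl, Ideal.mem_quotient_iff_mem hIJ] at h0
        exact h0
    exact hasFiniteTorDim_of_equiv
      ((l.quotKerEquivOfSurjective hl).symm ≪≫ₗ Submodule.quotEquivOfEq _ _ hkl ≪≫ₗ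
        Submodule.Quotient.restrictScalarsEquiv (A ⧸ I) (Ideal.span (Set.range fs))) hfd

end CILib
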